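import Groth.Agent.BertiniLoc.Basic
import Groth.Agent.FieldSep.MacLane
import Groth.Agent.FBase.TensorAlgClosed
import Mathlib.RingTheory.LocalRing.Length
import Mathlib.RingTheory.Localization.Module
import Mathlib.RingTheory.Smooth.Field
import Mathlib.FieldTheory.PurelyInseparable.Basic
import Mathlib.RingTheory.Ideal.GoingDown
import Mathlib.RingTheory.TensorProduct.Free

/-!
# Multiplicities of components of base changes of fields are powers of the exponential characteristic
-/

set_option autoImplicit false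
set_option linter.style.haveILetI false
universe u

open TensorProduct

namespace Groth.Agent.RelCyc6

theorem length_eq_of_ringEquiv {A B : Type u} [CommRing A] [CommRing B] (e : A ≃+* B) :
    Module.length A A = Module.length B B := by
  letI := e.toRingHom.toAlgebra
  let l : A ≃ₗ[A] B := AddEquiv.toLinearEquiv e.toAddEquiv fun c x => map_mul e c x
  rw [l.length_eq]
  exact Module.length_eq_of_surjective (R := B) (M := B) (S := A) e.surjective

theorem exists_length_eq_pow (R0 R : Type u) [CommRing R0] [CommRing R] [Algebra R0 R] [IsReduced R0]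
    (p m : ℕ) (hp : p = 1 ∨ p.Prime) (b : Module.Basis (Fin (p ^ m)) R0 R)
    (hrad : ∀ x : R, ∃ N, 0 < N ∧ ∃ a, algebraMap R0 R a = x ^ N)
    (q : Ideal R) [q.IsPrime] (hq : q ∈ minimalPrimes R) :
    ∃ n : ℕ, Module.length (Localization.AtPrime q) (Localization.AtPrime q) = (p ^ n : ℕ) := by
  classical
  haveI : Module.Free R0 R := Module.Free.of_basis b
  let q0 := q.under R0
  haveI : q0.IsPrime := inferInstanceAs (q.comap (algebraMap R0 R)).IsPrime
  have hq0 : q0 ∈ minimalPrimes R0 := by
    refine ⟨⟨inferInstance, bot_le⟩, fun r hr hle => ?_⟩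
    haveI := hr.1
    by_contra h
    haveI : q.LiesOver q0 := ⟨rfl⟩
    obtain ⟨Q, hQq, hQ, hQr⟩ := Ideal.exists_ideal_lt_liesOver_of_lt (p := r) (q := q0) (Q := q)
      (lt_of_le_of_ne hle fun he => h (he ▸ le_rfl))
    exact hQq.not_ge (hq.2 ⟨hQ, bot_le⟩ hQq.le)
  have hE := Groth.Agent.BertiniLoc.isField_atPrime q0 hq0
  let E := Localization.AtPrime q0
  let M := Algebra.algebraMapSubmonoid R q0.primeCompl
  let R' := Localization M
  let bE : Module.Basis (Fin (p ^ m)) E R' := b.localizationLocalization E q0.primeCompl R'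
  have hMle : M ≤ q.primeCompl := by
    rintro _ ⟨a, ha, rfl⟩
    exact ha
  haveI : IsLocalization.AtPrime R' q := IsLocalization.of_le M q.primeCompl hMle fun x hx => by
    obtain ⟨N, hN, a, ha⟩ := hrad x
    have ha0 : a ∉ q0 := fun h => hx (Ideal.IsPrime.mem_of_pow_mem inferInstance N
      (by rw [← ha]; exact Ideal.mem_comap.1 h))
    have hu : IsUnit (algebraMap R R' (x ^ N)) := by
      rw [← ha]
      exact IsLocalization.map_units R' (⟨_, Algebra.mem_algebraMapSubmonoid_of_mem (⟨a, ha0⟩ : q0.primeCompl)⟩ : M)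
    rw [map_pow] at hu
    exact (isUnit_pow_iff hN.ne').1 hu
  haveI : IsLocalRing R' := IsLocalization.AtPrime.isLocalRing R' q
  letI := hE.toField
  haveI : Module.Finite E R' := Module.Finite.of_basis bE
  haveI : Module.Free E R' := Module.Free.of_basis bE
  have htot : Module.length E R' = (p ^ m : ℕ) := by
    rw [Module.length_of_free_of_finite, Module.length_eq_one, Module.finrank_eq_card_basis bE,
      Fintype.card_fin, mul_one]
  rw [IsLocalRing.length_restrictScalars E R' R'] at htot
  have hne : Module.length R' R' ≠ ⊤ := fun h => by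
    rw [h, ENat.top_mul (Module.length_pos).ne'] at htot
    exact ENat.top_ne_natCast _ htot
  have hne' : Module.length (IsLocalRing.ResidueField E) (IsLocalRing.ResidueField R') ≠ ⊤ := fun h => by
    rw [h, ENat.mul_top (Module.length_pos).ne'] at htot
    exact ENat.top_ne_natCast _ htot
  obtain ⟨l, hl⟩ := ENat.ne_top_iff_exists.1 hne
  obtain ⟨d, hd⟩ := ENat.ne_top_iff_exists.1 hne'
  rw [← hl, ← hd] at htot
  have hdvd : l ∣ p ^ m := ⟨d, by exact_mod_cast htot.symm⟩
  obtain ⟨n, hn⟩ : ∃ n, l = p ^ n := by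
    rcases hp with rfl | hp
    · exact ⟨0, by simpa using hdvd⟩
    · obtain ⟨n, -, hn⟩ := (Nat.dvd_prime_pow hp).1 hdvd
      exact ⟨n, hn⟩
  refine ⟨n, ?_⟩
  rw [length_eq_of_ringEquiv (IsLocalization.algEquiv q.primeCompl (Localization.AtPrime q) R').toRingEquiv,
    ← hl, hn]

theorem minimal_of_ringEquiv {A B : Type u} [CommRing A] [CommRing B] (e : A ≃+* B)
    (q : Ideal A) [q.IsPrime] (hq : q ∈ minimalPrimes A) :
    q.comap e.symm.toRingHom ∈ minimalPrimes B := by
  refine ⟨⟨inferInstanceAs (q.comap e.symm.toRingHom).IsPrime, bot_le⟩, fun r hr hle => ?_⟩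
  haveI := hr.1
  intro x hx
  have hcomap : r.comap e.toRingHom ≤ q := fun y hy => by
    simpa using hle (show e y ∈ r from hy)
  have h : e (e.symm x) ∈ r := hq.2 ⟨inferInstance, bot_le⟩ hcomap (show e.symm x ∈ q from hx)
  rwa [e.apply_symm_apply] at h

theorem length_localization_of_ringEquiv {A B : Type u} [CommRing A] [CommRing B] (e : A ≃+* B)
    (q : Ideal A) [q.IsPrime] [(q.comap e.symm.toRingHom).IsPrime] :
    Module.length (Localization.AtPrime q) (Localization.AtPrime q) =
      Module.length (Localization.AtPrime (q.comap e.symm.toRingHom))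
        (Localization.AtPrime (q.comap e.symm.toRingHom)) := by
  refine length_eq_of_ringEquiv (IsLocalization.ringEquivOfRingEquiv (M := q.primeCompl)
    (T := (q.comap e.symm.toRingHom).primeCompl) (Localization.AtPrime q)
    (Localization.AtPrime (q.comap e.symm.toRingHom)) e ?_)
  ext x
  simp only [Submonoid.mem_map, Ideal.mem_primeCompl_iff]
  refine ⟨?_, fun h => ⟨e.symm x, h, e.apply_symm_apply x⟩⟩
  rintro ⟨y, hy, rfl⟩ h
  exact hy (by simpa using h)

theorem exists_length_tensor_eq_pow (k K F L : Type u) [Field k] [Field K] [Field F] [Field L]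
    [Algebra k K] [Algebra k F] [Algebra F L] [Algebra k L] [IsScalarTower k F L]
    [Algebra.IsGeometricallyReduced k F] [FiniteDimensional F L] [IsPurelyInseparable F L]
    (p : ℕ) [ExpChar k p]
    (q : Ideal (K ⊗[k] L)) [q.IsPrime] (hq : q ∈ minimalPrimes (K ⊗[k] L)) :
    ∃ n : ℕ, Module.length (Localization.AtPrime q) (Localization.AtPrime q) = (p ^ n : ℕ) := by
  haveI : ExpChar F p := expChar_of_injective_algebraMap (algebraMap k F).injective p
  obtain ⟨m, hm⟩ := IsPurelyInseparable.finrank_eq_pow (F := F) (E := L) p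
  haveI : IsReduced (K ⊗[k] F) := FBase.TensorAlgClosed.isReduced_tensor_of_isGeometricallyReduced
  haveI : IsReduced (F ⊗[k] K) :=
    isReduced_of_injective _ (Algebra.TensorProduct.comm k F K).injective
  let e : (K ⊗[k] L) ≃+* ((F ⊗[k] K) ⊗[F] L) :=
    ((Algebra.TensorProduct.comm k K L).toRingEquiv.trans
      (Algebra.TensorProduct.cancelBaseChange k F F L K).symm.toRingEquiv).trans
        (Algebra.TensorProduct.comm F L (F ⊗[k] K)).toRingEquiv
  let b : Module.Basis (Fin (p ^ m)) (F ⊗[k] K) ((F ⊗[k] K) ⊗[F] L) :=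
    Algebra.TensorProduct.basis (F ⊗[k] K) ((Module.finBasis F L).reindex (finCongr hm))
  haveI : Nontrivial ((F ⊗[k] K) ⊗[F] L) := by
    haveI : Nontrivial (K ⊗[k] L) := (Algebra.TensorProduct.includeLeft_injective (S := k)
      (A := K) (B := L) (algebraMap k L).injective).nontrivial
    exact e.symm.toEquiv.nontrivial
  haveI : ExpChar ((F ⊗[k] K) ⊗[F] L) p :=
    expChar_of_injective_algebraMap (algebraMap F ((F ⊗[k] K) ⊗[F] L)).injective p
  let f : F ⊗[k] K →+* (F ⊗[k] K) ⊗[F] L := Algebra.TensorProduct.includeLeftRingHom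
  have hrad' : ∀ x : (F ⊗[k] K) ⊗[F] L, ∃ (n : ℕ) (a : F ⊗[k] K), f a = x ^ p ^ n := by
    intro x
    induction x using TensorProduct.induction_on with
    | zero => exact ⟨0, 0, by simp⟩
    | tmul a l =>
      obtain ⟨n, c, hc⟩ := (isPurelyInseparable_iff_pow_mem F p).1 inferInstance l
      refine ⟨n, c • a ^ p ^ n, ?_⟩
      rw [Algebra.TensorProduct.tmul_pow, ← hc, Algebra.algebraMap_eq_smul_one c]
      exact (TensorProduct.smul_tmul c (a ^ p ^ n) (1 : L))
    | add a c ha hc =>
      obtain ⟨i, y, hy⟩ := ha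
      obtain ⟨j, z, hz⟩ := hc
      refine ⟨i + j, y ^ p ^ j + z ^ p ^ i, ?_⟩
      rw [add_pow_expChar_pow, map_add, map_pow, map_pow, hy, hz, ← pow_mul, ← pow_mul, ← pow_add,
        ← pow_add, add_comm j i]
  haveI : (q.comap e.symm.toRingHom).IsPrime := inferInstance
  obtain ⟨n, hn⟩ := exists_length_eq_pow (F ⊗[k] K) ((F ⊗[k] K) ⊗[F] L) p m
    (by cases ‹ExpChar k p› with | zero => exact Or.inl rfl | prime h => exact Or.inr h) b
    (fun x => (hrad' x).imp' (p ^ ·) fun n h => ⟨pow_pos (expChar_pos k p) n, h⟩)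
    (q.comap e.symm.toRingHom) (minimal_of_ringEquiv e q hq)
  exact ⟨n, (length_localization_of_ringEquiv e q).trans hn⟩

open scoped IntermediateField.algebraAdjoinAdjoin in
theorem exists_length_baseChange_eq_pow (k K L : Type u) [Field k] [Field K] [Field L]
    [Algebra k K] [Algebra k L] (hL : (⊤ : IntermediateField k L).FG) (p : ℕ) [ExpChar k p]
    (q : Ideal (K ⊗[k] L)) [q.IsPrime] (hq : q ∈ minimalPrimes (K ⊗[k] L)) :
    ∃ n : ℕ, Module.length (Localization.AtPrime q) (Localization.AtPrime q) = (p ^ n : ℕ) := by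
  classical
  haveI : Algebra.EssFiniteType k L := IntermediateField.fg_top_iff.1 hL
  obtain ⟨s, hs⟩ := exists_isTranscendenceBasis k L
  let K0 := IntermediateField.adjoin k (Set.range ((↑) : s → L))
  haveI : Algebra.IsAlgebraic K0 L := hs.isAlgebraic_field
  haveI : Algebra.EssFiniteType K0 L := Algebra.EssFiniteType.of_comp k K0 L
  haveI : Module.Finite K0 L := Algebra.finite_of_essFiniteType_of_isAlgebraic
  haveI : ExpChar K0 p := expChar_of_injective_algebraMap (algebraMap k K0).injective p
  let Ls := separableClosure K0 L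
  haveI : Algebra.FormallySmooth k K0 := by
    let P := MvPolynomial s k
    let A0 := Algebra.adjoin k (Set.range ((↑) : s → L))
    haveI : Algebra.FormallySmooth k A0 := .of_equiv hs.1.aevalEquiv
    haveI : Algebra.FormallySmooth A0 K0 := by
      exact Algebra.FormallySmooth.of_isLocalization (nonZeroDivisors A0)
    exact Algebra.FormallySmooth.comp k A0 K0
  haveI : Algebra.FormallyEtale K0 Ls := Algebra.FormallyEtale.of_isSeparable K0 Ls
  haveI : Algebra.FormallySmooth k Ls := Algebra.FormallySmooth.comp k K0 Ls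
  haveI : Algebra.IsGeometricallyReduced k Ls := (FieldSep.MacLane.formallySmooth_iff k Ls).1 inferInstance
  haveI : IsScalarTower k Ls L := IsScalarTower.of_algebraMap_eq fun _ => rfl
  exact exists_length_tensor_eq_pow k K Ls L p q hq

end Groth.Agent.RelCyc6
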